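import Cfsg.Agent.JankoFourRep.Bits
import Cfsg.Agent.JankoFourRep.Data

/-! The matrices of the letters. -/

set_option autoImplicit false

namespace CfsgLib.JankoFourRep

/-- The rows of the letters: `0` for `x`, `1` for `y`, `2` for the inverse of `y`, otherwise `t`. -/
def rowsOf : ℕ → List ℕ
  | 0 => rowsX
  | 1 => rowsY
  | 2 => rowsYInv
  | _ => rowsT

theorem rowsOf_length (c : ℕ) : (rowsOf c).length = 112 := by
  match c with
  | 0 => decide +kernel
  | 1 => decide +kernel
  | 2 => decide +kernel
  | n + 3 => exact (by decide +kernel : rowsT.length = 112)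

theorem yInv_ok : isOne rowsOf [1, 2] = true ∧ isOne rowsOf [2, 1] = true := by decide +kernel

end CfsgLib.JankoFourRep
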