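import Cfsg.Agent.JankoFourRep.Letters

/-! Kernel checks of relators of the presented fourth Janko group on the matrices of degree 112. -/

set_option autoImplicit false

namespace CfsgLib.JankoFourRep

theorem base5_ok : isMat rowsOf [0, 1, 0, 1, 0, 2, 0, 1, 0, 2, 0, 1, 0, 2] rowsBase5 = true := by decide +kernel

theorem pow5_ok : isOne (fun _ => rowsBase5) (List.replicate 4 0) = true := by decide +kernel

theorem rel6_ok : isOne rowsOf [0, 1, 0, 1, 0, 2, 0, 1, 0, 1, 0, 2, 0, 1, 0, 1, 0, 2, 0, 1, 0, 2, 0, 2, 0, 1, 0, 2, 0, 2, 0, 1, 0, 2, 0, 2] = true := by decide +kernel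

theorem base10_ok : isMat rowsOf [1, 0, 1, 0, 2, 0, 1, 0, 2, 3, 1, 0, 2, 0, 1, 0, 2, 0] rowsBase10 = true := by decide +kernel

theorem pow10_ok : isOne (fun _ => rowsBase10) (List.replicate 3 0) = true := by decide +kernel

end CfsgLib.JankoFourRep
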