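import Cfsg.Agent.JankoFourRep.Letters

/-! Kernel checks of relators of the presented fourth Janko group on the matrices of degree 112. -/

set_option autoImplicit false

namespace CfsgLib.JankoFourRep

theorem base11_ok : isMat rowsOf [1, 0, 1, 0, 1, 0, 1, 1, 0, 1, 0, 1, 0, 1, 1, 0, 1, 0, 1, 0, 1, 3, 2, 2, 0, 2, 0, 2, 0, 2, 0, 2, 0, 2, 0, 2, 2, 0, 2, 0, 2, 0, 3, 0, 1, 0, 1, 0, 1, 1, 0, 1, 0, 1, 0, 1, 0, 1, 0, 1, 0, 1, 1] rowsBase11 = true := by decide +kernel

theorem pow11_ok : isOne (fun _ => rowsBase11) (List.replicate 2 0) = true := by decide +kernel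

end CfsgLib.JankoFourRep
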