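import Cfsg.Agent.JankoFourRep.Letters

/-! Kernel checks of relators of the presented fourth Janko group on the matrices of degree 112. -/

set_option autoImplicit false

namespace CfsgLib.JankoFourRep

theorem rel8_ok : isOne rowsOf [3, 2, 0, 2, 0, 2, 0, 1, 0, 1, 0, 2, 0, 2, 3, 1, 0, 1, 0, 2, 0, 2, 0, 1, 0, 1, 0, 1] = true := by decide +kernel

end CfsgLib.JankoFourRep
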