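import Cfsg.Agent.JankoFourRep.CheckA
import Cfsg.Agent.JankoFourRep.CheckB
import Cfsg.Agent.JankoFourRep.CheckC
import Cfsg.Agent.JankoFourRep.CheckD
import Cfsg.Prelude.Def_Spor_J4

/-!
The representation of degree 112 over the field with two elements of the presented fourth Janko group.
-/

set_option autoImplicit false

namespace CfsgLib.JankoFourRep

open Matrix Cfsg.Spor

theorem toMat_two {a b : ℕ} (h : isOne rowsOf [a, b] = true) : toMat (rowsOf a) * toMat (rowsOf b) = 1 := by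
  simpa using prod_eq_one_of_isOne rowsOf_length h

theorem toMat_x_x : toMat rowsX * toMat rowsX = 1 := by
  simpa only [rowsOf] using toMat_two (a := 0) (b := 0) rel0_ok

theorem toMat_y_yInv : toMat rowsY * toMat rowsYInv = 1 := by
  simpa only [rowsOf] using toMat_two (a := 1) (b := 2) yInv_ok.1

theorem toMat_yInv_y : toMat rowsYInv * toMat rowsY = 1 := by
  simpa only [rowsOf] using toMat_two (a := 2) (b := 1) yInv_ok.2

theorem toMat_t_t : toMat rowsT * toMat rowsT = 1 := by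
  simpa only [rowsOf] using toMat_two (a := 3) (b := 3) rel7_ok

/-- The values of the generators. -/
def genGL : J4.Gen → GL (Fin 112) (ZMod 2)
  | J4.Gen.x => ⟨toMat rowsX, toMat rowsX, toMat_x_x, toMat_x_x⟩
  | J4.Gen.y => ⟨toMat rowsY, toMat rowsYInv, toMat_y_yInv, toMat_yInv_y⟩
  | J4.Gen.t => ⟨toMat rowsT, toMat rowsT, toMat_t_t, toMat_t_t⟩

theorem one_of_val {R : Type*} [Monoid R] {g : Rˣ} {z : R} (e : g.val = z) (h : z = 1) : g = 1 :=
  Units.ext (e.trans h)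

theorem pow_eq_of_val {R : Type*} [Monoid R] {g : Rˣ} {z : R} {n : ℕ} (e : g.val = z) (h : z ^ n = 1) :
    g ^ n = 1 :=
  Units.ext (by rw [Units.val_pow_eq_pow_val, e, h, Units.val_one])

/-- The relations, for arbitrary units with the given values. -/
theorem lift_extra_of {R : Type*} [Monoid R] (f : J4.Gen → Rˣ) (v : ℕ → R)
    (hx : (f J4.Gen.x).val = v 0) (hx' : (f J4.Gen.x)⁻¹.val = v 0)
    (hy : (f J4.Gen.y).val = v 1) (hy' : (f J4.Gen.y)⁻¹.val = v 2)
    (ht : (f J4.Gen.t).val = v 3) (ht' : (f J4.Gen.t)⁻¹.val = v 3)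
    (h0 : (([0, 0] : List ℕ).map v).prod = 1)
    (h1 : (([1] : List ℕ).map v).prod ^ 3 = 1)
    (h2 : (([0, 1] : List ℕ).map v).prod ^ 23 = 1)
    (h3 : (([0, 2, 0, 1] : List ℕ).map v).prod ^ 12 = 1)
    (h4 : (([0, 2, 0, 2, 0, 1, 0, 1] : List ℕ).map v).prod ^ 5 = 1)
    (h5 : (([0, 1, 0, 1, 0, 2, 0, 1, 0, 2, 0, 1, 0, 2] : List ℕ).map v).prod ^ 4 = 1)
    (h6 : (([0, 1, 0, 1, 0, 2, 0, 1, 0, 1, 0, 2, 0, 1, 0, 1, 0, 2, 0, 1, 0, 2, 0, 2, 0, 1, 0, 2, 0, 2, 0, 1, 0, 2, 0, 2] : List ℕ).map v).prod = 1)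
    (h7 : (([3, 3] : List ℕ).map v).prod = 1)
    (h8 : (([3, 2, 0, 2, 0, 2, 0, 1, 0, 1, 0, 2, 0, 2, 3, 1, 0, 1, 0, 2, 0, 2, 0, 1, 0, 1, 0, 1] : List ℕ).map v).prod = 1)
    (h9 : (([3, 0, 3, 0] : List ℕ).map v).prod = 1)
    (h10 : (([1, 0, 1, 0, 2, 0, 1, 0, 2, 3, 1, 0, 2, 0, 1, 0, 2, 0] : List ℕ).map v).prod ^ 3 = 1)
    (h11 : (([1, 0, 1, 0, 1, 0, 1, 1, 0, 1, 0, 1, 0, 1, 1, 0, 1, 0, 1, 0, 1, 3, 2, 2, 0, 2, 0, 2, 0, 2, 0, 2, 0, 2, 0, 2, 2, 0, 2, 0, 2, 0, 3, 0, 1, 0, 1, 0, 1, 1, 0, 1, 0, 1, 0, 1, 0, 1, 0, 1, 0, 1, 1] : List ℕ).map v).prod ^ 2 = 1) :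
    ∀ r ∈ J4.extra, FreeGroup.lift f r = 1 := by
  delta J4.extra
  simp only [List.forall_mem_cons, List.forall_mem_nil, map_pow, map_mul, map_inv,
    FreeGroup.lift_apply_of, J4.x, J4.y, J4.t]
  refine ⟨?_, ?_, ?_, ?_, ?_, ?_, ?_, ?_, ?_, ?_, ?_, ?_, fun _ h => absurd h List.not_mem_nil⟩
  · exact one_of_val (by simp [hx, hx', hy, hy', ht, ht', pow_succ, mul_assoc]) h0
  · exact pow_eq_of_val (by simp [hx, hx', hy, hy', ht, ht', pow_succ, mul_assoc]) h1
  · exact pow_eq_of_val (by simp [hx, hx', hy, hy', ht, ht', pow_succ, mul_assoc]) h2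
  · exact pow_eq_of_val (by simp [hx, hx', hy, hy', ht, ht', pow_succ, mul_assoc]) h3
  · exact pow_eq_of_val (by simp [hx, hx', hy, hy', ht, ht', pow_succ, mul_assoc]) h4
  · exact pow_eq_of_val (by simp [hx, hx', hy, hy', ht, ht', pow_succ, mul_assoc]) h5
  · exact one_of_val (by simp [hx, hx', hy, hy', ht, ht', pow_succ, mul_assoc]) h6
  · exact one_of_val (by simp [hx, hx', hy, hy', ht, ht', pow_succ, mul_assoc]) h7
  · exact one_of_val (by simp [hx, hx', hy, hy', ht, ht', pow_succ, mul_assoc]) h8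
  · exact one_of_val (by simp [hx, hx', hy, hy', ht, ht', pow_succ, mul_assoc]) h9
  · exact pow_eq_of_val (by simp [hx, hx', hy, hy', ht, ht', pow_succ, mul_assoc]) h10
  · exact pow_eq_of_val (by simp [hx, hx', hy, hy', ht, ht', pow_succ, mul_assoc]) h11

theorem pow_ok {w P : List ℕ} {n : ℕ} (hP : P.length = 112) (hb : isMat rowsOf w P = true)
    (h : isOne (fun _ => P) (List.replicate n 0) = true) :
    (w.map fun c => toMat (rowsOf c)).prod ^ n = 1 := by
  rw [prod_eq_of_isMat rowsOf_length hb, pow_eq_one_of_isOne hP h]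

theorem lift_extra : ∀ r ∈ J4.extra, FreeGroup.lift genGL r = 1 :=
  lift_extra_of genGL (fun c => toMat (rowsOf c)) (by simp only [genGL, rowsOf]) (by simp only [genGL, rowsOf, Units.inv_mk])
    (by simp only [genGL, rowsOf]) (by simp only [genGL, rowsOf, Units.inv_mk])
    (by simp only [genGL, rowsOf]) (by simp only [genGL, rowsOf, Units.inv_mk])
    (prod_eq_one_of_isOne rowsOf_length rel0_ok)
    (pow_ok (by decide +kernel) base1_ok pow1_ok)
    (pow_ok (by decide +kernel) base2_ok pow2_ok)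
    (pow_ok (by decide +kernel) base3_ok pow3_ok)
    (pow_ok (by decide +kernel) base4_ok pow4_ok)
    (pow_ok (by decide +kernel) base5_ok pow5_ok)
    (prod_eq_one_of_isOne rowsOf_length rel6_ok)
    (prod_eq_one_of_isOne rowsOf_length rel7_ok)
    (prod_eq_one_of_isOne rowsOf_length rel8_ok)
    (prod_eq_one_of_isOne rowsOf_length rel9_ok)
    (pow_ok (by decide +kernel) base10_ok pow10_ok)
    (pow_ok (by decide +kernel) base11_ok pow11_ok)

/-- The representation. -/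
noncomputable def rep : J4 →* GL (Fin 112) (ZMod 2) :=
  PresentedGroup.toGroup (f := genGL) (by
    intro r hr
    rcases hr with hr | hr
    · obtain ⟨e, hx, -⟩ := hr
      exact (List.not_mem_nil (hx : e ∈ ([] : List J4.Gen))).elim
    · exact lift_extra r hr)

/-- The values on the generators. -/
theorem rep_of (g : J4.Gen) : rep (PresentedGroup.of g) = genGL g := PresentedGroup.toGroup.of _

end CfsgLib.JankoFourRep
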