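import Cfsg.Agent.CosetEnum.Engine

/-!
Square matrices of size 112 over the field with two elements as lists of rows packed into numbers.
-/

set_option autoImplicit false

namespace CfsgLib.JankoFourRep

open Matrix Finset

/-- Matrices of size 112 over the field with two elements. -/
abbrev Mat : Type := Matrix (Fin 112) (Fin 112) (ZMod 2)

/-- A bit as an element of the field. -/
def bit (r j : ℕ) : ZMod 2 := bif r.testBit j then 1 else 0

/-- The matrix with given rows. -/
def toMat (L : List ℕ) : Mat := Matrix.of fun i j => bit (L.getD i.val 0) j.val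

/-- A row times a matrix; the first row of the list belongs to the bit `k`. -/
def rowMulFrom : List ℕ → ℕ → ℕ → ℕ
  | [], _, _ => 0
  | a :: L, r, k => bif r.testBit k then a ^^^ rowMulFrom L r (k + 1) else rowMulFrom L r (k + 1)

/-- A row times a matrix. -/
def rowMul (L : List ℕ) (r : ℕ) : ℕ := rowMulFrom L r 0

/-- A row times a word in given matrices, evaluated to a numeral after each letter. -/
def evalRow (G : ℕ → List ℕ) : List ℕ → ℕ → ℕ
  | [], r => r
  | c :: w, r => CosetEnum.force (rowMul (G c) r) (evalRow G w)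

/-- A word fixes every basis row. -/
def isOne (G : ℕ → List ℕ) (w : List ℕ) : Bool :=
  (List.range 112).all fun i => Nat.beq (evalRow G w (2 ^ i)) (2 ^ i)

/-- A word multiplies to the matrix with the given rows. -/
def isMat (G : ℕ → List ℕ) (w : List ℕ) (P : List ℕ) : Bool :=
  (List.range 112).all fun i => Nat.beq (evalRow G w (2 ^ i)) (P.getD i 0)

/-- The product of two matrices. -/
def mulL (A B : List ℕ) : List ℕ := A.map (rowMul B)

/-- The identity. -/
def oneL : List ℕ := (List.range 112).map (2 ^ ·)

/-- Shape of a matrix. -/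
def wf (A : List ℕ) : Bool := A.length == 112

/-- The product of a word in given matrices. -/
def evalL (G : ℕ → List ℕ) : List ℕ → List ℕ
  | [] => oneL
  | c :: w => mulL (G c) (evalL G w)

theorem bit_zero (j : ℕ) : bit 0 j = 0 := by simp [bit]

theorem bit_xor (x y j : ℕ) : bit (x ^^^ y) j = bit x j + bit y j := by
  simp only [bit, Nat.testBit_xor]
  cases x.testBit j <;> cases y.testBit j <;> decide

theorem bit_rowMulFrom : ∀ (L : List ℕ) (r k j : ℕ),
    bit (rowMulFrom L r k) j = ∑ m ∈ range L.length, bit r (k + m) * bit (L.getD m 0) j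
  | [], r, k, j => by simp [rowMulFrom, bit_zero]
  | a :: L, r, k, j => by
    rw [List.length_cons, Finset.sum_range_succ', rowMulFrom]
    simp only [List.getD_cons_succ, List.getD_cons_zero, add_zero]
    have e : ∀ m, k + (m + 1) = k + 1 + m := fun m => by omega
    rw [show (∑ m ∈ range L.length, bit r (k + (m + 1)) * bit (L.getD m 0) j) =
        bit (rowMulFrom L r (k + 1)) j from
      (Finset.sum_congr rfl fun m _ => by rw [e m]).trans (bit_rowMulFrom L r (k + 1) j).symm]
    cases h : r.testBit k
    · rw [show bit r k = 0 by rw [bit, h]; rfl, zero_mul, add_zero]; rfl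
    · rw [show bit r k = 1 by rw [bit, h]; rfl, one_mul, cond_true, bit_xor]
      exact add_comm _ _

theorem bit_rowMul (L : List ℕ) (r j : ℕ) :
    bit (rowMul L r) j = ∑ m ∈ range L.length, bit r m * bit (L.getD m 0) j := by
  simpa [rowMul] using bit_rowMulFrom L r 0 j

theorem toMat_mulL {A B : List ℕ} (hA : A.length = 112) (hB : B.length = 112) :
    toMat (mulL A B) = toMat A * toMat B := by
  ext i j
  have hi : i.val < A.length := lt_of_lt_of_eq i.isLt hA.symm
  simp only [toMat, Matrix.of_apply, Matrix.mul_apply]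
  rw [show (mulL A B).getD i.val 0 = rowMul B (A.getD i.val 0) by
    simp [mulL, List.getD_eq_getElem?_getD, List.getElem?_map, List.getElem?_eq_getElem hi],
    bit_rowMul, hB, ← Fin.sum_univ_eq_sum_range (fun k => bit (A.getD i.val 0) k * bit (B.getD k 0) j.val) 112]

theorem toMat_oneL : toMat oneL = 1 := by
  ext i j
  have : oneL.getD i.val 0 = 2 ^ i.val := by
    simp [oneL, List.getD_eq_getElem?_getD, List.getElem?_map, List.getElem?_range i.isLt]
  simp only [toMat, Matrix.of_apply, this, bit, Nat.testBit_two_pow, Matrix.one_apply, Fin.ext_iff]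
  by_cases h : i.val = j.val <;> simp [h]

theorem evalL_spec (G : ℕ → List ℕ) (hG : ∀ c, (G c).length = 112) :
    ∀ w, (evalL G w).length = 112 ∧ toMat (evalL G w) = (w.map fun c => toMat (G c)).prod
  | [] => ⟨by simp [evalL, oneL], by simpa [evalL] using toMat_oneL⟩
  | c :: w => by
    obtain ⟨h1, h2⟩ := evalL_spec G hG w
    refine ⟨by simp [evalL, mulL, hG c], ?_⟩
    rw [evalL, toMat_mulL (hG c) h1, h2, List.map_cons, List.prod_cons]

/-- The vector of the low bits of a number. -/
def vecOf (r : ℕ) : Fin 112 → ZMod 2 := fun j => bit r j.val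

theorem vecOf_rowMul {L : List ℕ} (hL : L.length = 112) (r : ℕ) :
    vecOf (rowMul L r) = Matrix.vecMul (vecOf r) (toMat L) := by
  funext j
  simp only [vecOf, Matrix.vecMul, dotProduct, toMat, Matrix.of_apply]
  rw [bit_rowMul, hL, ← Fin.sum_univ_eq_sum_range (fun m => bit r m * bit (L.getD m 0) j.val) 112]

theorem vecOf_evalRow (G : ℕ → List ℕ) (hG : ∀ c, (G c).length = 112) : ∀ (w : List ℕ) (r : ℕ),
    vecOf (evalRow G w r) = Matrix.vecMul (vecOf r) (w.map fun c => toMat (G c)).prod
  | [], r => by simp [evalRow]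
  | c :: w, r => by
    rw [evalRow, CosetEnum.force_eq, vecOf_evalRow G hG w, vecOf_rowMul (hG c), Matrix.vecMul_vecMul,
      List.map_cons, List.prod_cons]

theorem prod_eq_of_isMat {G : ℕ → List ℕ} (hG : ∀ c, (G c).length = 112) {w P : List ℕ}
    (h : isMat G w P = true) : (w.map fun c => toMat (G c)).prod = toMat P := by
  refine Matrix.ext fun i j => ?_
  have hi := Nat.eq_of_beq_eq_true (List.all_eq_true.1 h i.val (List.mem_range.2 i.isLt))
  have hv := congrFun (vecOf_evalRow G hG w (2 ^ i.val)) j
  have e : vecOf (2 ^ i.val) = Pi.single i 1 := by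
    funext k
    by_cases hk : i = k
    · subst hk; simp [vecOf, bit, Nat.testBit_two_pow]
    · simp [vecOf, bit, Nat.testBit_two_pow, Fin.val_ne_of_ne hk, Pi.single_apply, Ne.symm hk]
  rw [hi, e, Matrix.single_one_vecMul] at hv
  exact hv.symm

theorem prod_eq_one_of_isOne {G : ℕ → List ℕ} (hG : ∀ c, (G c).length = 112) {w : List ℕ}
    (h : isOne G w = true) : (w.map fun c => toMat (G c)).prod = 1 := by
  refine Matrix.ext fun i j => ?_
  have hi := Nat.eq_of_beq_eq_true (List.all_eq_true.1 h i.val (List.mem_range.2 i.isLt))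
  have hv := congrFun (vecOf_evalRow G hG w (2 ^ i.val)) j
  have e : vecOf (2 ^ i.val) = Pi.single i 1 := by
    funext k
    by_cases hk : i = k
    · subst hk; simp [vecOf, bit, Nat.testBit_two_pow]
    · simp [vecOf, bit, Nat.testBit_two_pow, Fin.val_ne_of_ne hk, Pi.single_apply, Ne.symm hk]
  rw [hi, e, Matrix.single_one_vecMul] at hv
  rw [Matrix.one_apply]
  refine hv.symm.trans ?_
  simp [Pi.single_apply, eq_comm]

theorem pow_eq_one_of_isOne {P : List ℕ} (hP : P.length = 112) {n : ℕ}
    (h : isOne (fun _ => P) (List.replicate n 0) = true) : toMat P ^ n = 1 := by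
  have := prod_eq_one_of_isOne (G := fun _ => P) (fun _ => hP) h
  simpa using this

end CfsgLib.JankoFourRep
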