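import Cfsg.Agent.JankoFourRep.Letters

/-! Kernel checks of relators of the presented fourth Janko group on the matrices of degree 112. -/

set_option autoImplicit false

namespace CfsgLib.JankoFourRep

theorem rel0_ok : isOne rowsOf [0, 0] = true := by decide +kernel

theorem base1_ok : isMat rowsOf [1] rowsBase1 = true := by decide +kernel

theorem pow1_ok : isOne (fun _ => rowsBase1) (List.replicate 3 0) = true := by decide +kernel

theorem base2_ok : isMat rowsOf [0, 1] rowsBase2 = true := by decide +kernel

theorem pow2_ok : isOne (fun _ => rowsBase2) (List.replicate 23 0) = true := by decide +kernel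

theorem base3_ok : isMat rowsOf [0, 2, 0, 1] rowsBase3 = true := by decide +kernel

theorem pow3_ok : isOne (fun _ => rowsBase3) (List.replicate 12 0) = true := by decide +kernel

theorem base4_ok : isMat rowsOf [0, 2, 0, 2, 0, 1, 0, 1] rowsBase4 = true := by decide +kernel

theorem pow4_ok : isOne (fun _ => rowsBase4) (List.replicate 5 0) = true := by decide +kernel

theorem rel7_ok : isOne rowsOf [3, 3] = true := by decide +kernel

theorem rel9_ok : isOne rowsOf [3, 0, 3, 0] = true := by decide +kernel

end CfsgLib.JankoFourRep
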